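import Groth.Agent.Lib.RatMapAV.Hom

/-!
# Products of pointed varieties mapping to abelian varieties
-/

universe u

open CategoryTheory Limits AlgebraicGeometry MonoidalCategory CartesianMonoidalCategory MonObj
open scoped CategoryTheory.Obj

set_option linter.style.haveILetI false
set_option backward.isDefEq.respectTransparency false

namespace Groth.Agent.ProdAV19

/-- Nonempty opens of geometrically integral schemes are geometrically integral. -/
theorem geometricallyIntegral_open {K : Type u} [Field K] {W : Scheme.{u}} (f : W ⟶ Spec (CommRingCat.of K))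
    [GeometricallyIntegral f] (U : W.Opens) [Nonempty U] : GeometricallyIntegral (U.ι ≫ f) := by
  refine ⟨fun L _ y Z fst snd hpb => ?_⟩
  let j := pullback.map (U.ι ≫ f) y f y U.ι (𝟙 _) (𝟙 _) (by simp) (by simp)
  haveI : IsOpenImmersion j :=
    MorphismProperty.pullbackMap (P := @IsOpenImmersion) inferInstance inferInstance rfl (Category.id_comp y).symm
  haveI : IsIntegral (pullback f y) :=
    GeometricallyIntegral.geometrically_isIntegral _ _ _ (IsPullback.of_hasPullback f y)
  haveI : Surjective y := ⟨Function.surjective_to_subsingleton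
    (α := Spec (CommRingCat.of L)) (β := Spec (CommRingCat.of K)) _⟩
  obtain ⟨q, -⟩ := (pullback.fst (U.ι ≫ f) y).surjective (Classical.arbitrary U)
  haveI : Nonempty ↥(pullback (U.ι ≫ f) y) := ⟨q⟩
  haveI : IsIntegral (pullback (U.ι ≫ f) y) := isIntegral_of_isOpenImmersion j
  haveI : Nonempty Z := ⟨hpb.isoPullback.inv q⟩
  exact isIntegral_of_isOpenImmersion hpb.isoPullback.hom

theorem eq_one_of_axes {K : Type u} [Field K] [IsAlgClosed K] (V W A : Over (Spec (CommRingCat.of K)))
    [LocallyOfFiniteType V.hom] [GeometricallyIntegral V.hom] [LocallyOfFiniteType W.hom] [IsSeparated W.hom]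
    [GeometricallyIntegral W.hom] [GrpObj A] [IsProper A.hom] (h : V ⊗ W ⟶ A)
    (v₀ : 𝟙_ (Over (Spec (CommRingCat.of K))) ⟶ V) (w₀ : 𝟙_ (Over (Spec (CommRingCat.of K))) ⟶ W)
    (hv : lift (toUnit W ≫ v₀) (𝟙 W) ≫ h = 1) (hw : lift (𝟙 V) (toUnit V ≫ w₀) ≫ h = 1) : h = 1 := by
  haveI : IsIntegral W.left := GeometricallyIntegral.isIntegral_of_subsingleton W.hom
  haveI : IsLocallyNoetherian W.left := LocallyOfFiniteType.isLocallyNoetherian W.hom
  haveI : LocallyOfFinitePresentation W.hom := {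
    finitePresentation_appLE := fun {U} hU {V} hV e =>
      haveI := IsLocallyNoetherian.component_noetherian (X := Spec (CommRingCat.of K)) ⟨U, hU⟩
      RingHom.FinitePresentation.of_finiteType.mp (W.hom.finiteType_appLE hU hV e) }
  let U := W.hom.smoothLocus
  obtain ⟨u₀, hu₀⟩ := W.hom.dense_smoothLocus_of_perfectField.nonempty
  haveI : Nonempty U := ⟨⟨u₀, hu₀⟩⟩
  let W₀ : Over (Spec (CommRingCat.of K)) := Over.mk (U.ι ≫ W.hom)
  haveI : Smooth W₀.hom := by
    show Smooth (U.ι ≫ W.hom)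
    rw [← Scheme.Hom.smoothLocus_eq_top_iff, ← Scheme.Hom.preimage_smoothLocus_eq]
    exact top_le_iff.mp fun x _ => x.2
  haveI : IsSeparated W₀.hom := inferInstanceAs (IsSeparated (U.ι ≫ W.hom))
  haveI : GeometricallyIntegral W₀.hom := geometricallyIntegral_open W.hom U
  let j : W₀ ⟶ W := Over.homMk U.ι rfl
  let h₀ : V ⊗ W₀ ⟶ A := (V ◁ j) ≫ h
  have hax : lift (toUnit W₀ ≫ v₀) (𝟙 W₀) ≫ h₀ = 1 := by
    have : lift (toUnit W₀ ≫ v₀) j = j ≫ lift (toUnit W ≫ v₀) (𝟙 W) := by
      rw [comp_lift, Category.comp_id, ← Category.assoc j, comp_toUnit]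
    rw [← Category.assoc, lift_whiskerLeft, Category.id_comp, this, Category.assoc, hv, MonObj.comp_one]
  haveI : Nonempty W₀.left := ⟨⟨u₀, hu₀⟩⟩
  haveI : JacobsonSpace W₀.left := LocallyOfFiniteType.jacobsonSpace W₀.hom
  obtain ⟨x, -, hx⟩ := nonempty_inter_closedPoints (Z := (Set.univ : Set W₀.left)) Set.univ_nonempty
    isOpen_univ.isLocallyClosed
  let w₁ : 𝟙_ (Over (Spec (CommRingCat.of K))) ⟶ W₀ := Over.homMk (pointOfClosedPoint W₀.hom x hx) (by simp)
  let g : V ⟶ A := lift (𝟙 V) (toUnit V ≫ w₁) ≫ h₀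
  have hp : h₀ = fst V W₀ ≫ g := RatMapAV.eq_fst_comp_of_axis _ _ _ h₀ v₀ w₁ hax
  haveI : GeometricallyIntegral (V ⊗ W).hom := AbRigid.geometricallyIntegral_tensorObj V W
  haveI : LocallyOfFiniteType (V ⊗ W).hom := by
    show LocallyOfFiniteType (pullback.fst V.hom W.hom ≫ V.hom)
    infer_instance
  haveI : IsLocallyNoetherian (V ⊗ W).left := LocallyOfFiniteType.isLocallyNoetherian (V ⊗ W).hom
  haveI : IsIntegral (V ⊗ W).left := GeometricallyIntegral.isIntegral_of_subsingleton (V ⊗ W).hom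
  have hall : h = fst V W ≫ g := by
    haveI : IsOpenImmersion j.left := inferInstanceAs (IsOpenImmersion U.ι)
    haveI : IsOpenImmersion (V ◁ j).left := by
      have hP := (AbRigid.isPullback_whiskerLeft j V).map (Over.forget _)
      exact MorphismProperty.of_isPullback (P := @IsOpenImmersion) hP ‹IsOpenImmersion j.left›
    haveI : Nonempty (V ⊗ W₀).left := ⟨(lift v₀ w₁).left (IsLocalRing.closedPoint K)⟩
    haveI : IsDominant (V ◁ j).left :=
      ⟨((V ◁ j).left.isOpenEmbedding.isOpen_range).dense (Set.range_nonempty _)⟩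
    ext1
    refine ext_of_isDominant_of_isSeparated A.hom ((Over.w h).trans (Over.w (fst V W ≫ g)).symm) (V ◁ j).left ?_
    have e : (V ◁ j) ≫ h = (V ◁ j) ≫ fst V W ≫ g := by
      rw [whiskerLeft_fst_assoc, ← hp]
    exact congrArg CommaMorphism.left e
  have hg : g = 1 := by
    rw [← hw, hall, lift_fst_assoc, Category.id_comp]
  rw [hall, hg, MonObj.comp_one]

end Groth.Agent.ProdAV19

namespace Groth.Agent.ProdAV19

variable {K : Type u} [Field K]

set_option synthInstance.maxHeartbeats 400000 in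
set_option maxHeartbeats 1000000 in
/-- A morphism from a product of pointed varieties to an abelian variety is determined by its restrictions to the axes. -/
theorem eq_one_of_axes' (V W A : Over (Spec (CommRingCat.of K))) [LocallyOfFiniteType V.hom]
    [GeometricallyIntegral V.hom] [LocallyOfFiniteType W.hom] [IsSeparated W.hom]
    [GeometricallyIntegral W.hom] [GrpObj A] [IsProper A.hom] (h : V ⊗ W ⟶ A)
    (v₀ : 𝟙_ (Over (Spec (CommRingCat.of K))) ⟶ V) (w₀ : 𝟙_ (Over (Spec (CommRingCat.of K))) ⟶ W)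
    (hv : lift (toUnit W ≫ v₀) (𝟙 W) ≫ h = 1) (hw : lift (𝟙 V) (toUnit V ≫ w₀) ≫ h = 1) : h = 1 := by
  let F := RatMapAV.bc K
  apply F.map_injective
  rw [← cancel_epi (Functor.Monoidal.μIso F V W).hom, Functor.map_one, MonObj.comp_one]
  refine eq_one_of_axes _ _ _ _ (Functor.LaxMonoidal.ε F ≫ F.map v₀) (Functor.LaxMonoidal.ε F ≫ F.map w₀) ?_ ?_
  · rw [← Category.assoc (toUnit _), Functor.Monoidal.toUnit_ε, ← Functor.map_comp, ← CategoryTheory.Functor.map_id,
      Functor.Monoidal.μIso_hom, Functor.Monoidal.lift_μ_assoc, ← Functor.map_comp, hv, Functor.map_one]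
  · rw [← Category.assoc (toUnit _), Functor.Monoidal.toUnit_ε, ← Functor.map_comp, ← CategoryTheory.Functor.map_id,
      Functor.Monoidal.μIso_hom, Functor.Monoidal.lift_μ_assoc, ← Functor.map_comp, hw, Functor.map_one]

end Groth.Agent.ProdAV19
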